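import Cfsg.Agent.H196.S8.Core
import Cfsg.Agent.H133.Ore.DegCo3
import Cfsg.Agent.H75.S8.LieTwo
import Cfsg.Agent.H58.S8.Iso
import Cfsg.Agent.H672.SporIM.RankRows
import Cfsg.Agent.H765.DS.HSMcL
import Cfsg.Agent.H603.FD.Spor
import Cfsg.Agent.H678.DG.Tits
import Cfsg.Agent.H707.RowTits
import Cfsg.Agent.NotCT.Orders
import Cfsg.Agent.H417.RecogMathieu

/-!
# S4908: the row SOC1 of `Co₃` (helper809)

The residues of the degrees modulo 11 and 23, the bound 21 and the nonexistence of the degrees 22 and 45 exclude the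
socles of Lie type, the alternating groups and the sporadic groups except `M₂₄` and `Co₂` (hypotheses `hm`, `hc` of
`main`).
-/

set_option autoImplicit false
set_option maxRecDepth 100000

namespace Cfsg.Agent.H809.S8.CoThree

open Cfsg Subgroup
open Cfsg.Agent.H691.AN (AlmostSimple)
open Cfsg.Agent.H653.Sieve Cfsg.Agent.H651.Two Cfsg.Agent.H511.Ore
open Cfsg.Agent.H133.Ore (Co3.c23 Co3.c11)
open Cfsg.Agent.H196.S8 (prime_deg two_deg lie_pp alt_deg exists_split prime_mem lie_five mem_of_irr mem_of_equiv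
  prime_dvd_alt)

universe u v

abbrev N : ℕ := 495766656000

/-- the admissible degrees -/
def ok (d : ℕ) : Bool :=
  [0, 1, 11, 12, 22].contains (d % 23) && ([0, 1, 5, 6, 10].contains (d % 11) &&
    ((d == 1 || Nat.ble 21 d) && (d != 22 && d != 45)))

theorem of_any {l : List (ℕ × ℤ)} {m : ℕ} (h : (l.any fun rw => Nat.beq m rw.1) = true) : m ∈ l.map Prod.fst := by
  obtain ⟨x, hx, h1⟩ := List.any_eq_true.1 h
  rw [Nat.eq_of_beq_eq_true h1]
  exact List.mem_map_of_mem hx

theorem deg_co {d : ℕ} (hd : d ∈ charDegrees Spor.Co3) : d ∣ N ∧ ok d = true := by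
  have := H133.Ore.Co3.fin
  have := H133.Ore.Co3.simple
  obtain ⟨χ, rfl⟩ := hd
  refine ⟨by rw [N, ← H133.Ore.Co3.card]; exact charDegree_dvd χ, ?_⟩
  have h1 := of_any (res_of_has H133.Ore.Co3.not_comm H133.Ore.Co3.card
    (H133.Ore.Co3.has H133.Ore.Co3.c23 (by simp [H133.Ore.Co3.cd])) (by decide +kernel) χ)
  have h2 := of_any (res_of_has H133.Ore.Co3.not_comm H133.Ore.Co3.card
    (H133.Ore.Co3.has H133.Ore.Co3.c11 (by simp [H133.Ore.Co3.cd])) (by decide +kernel) χ)
  have h3 : charDegree (χ : Spor.Co3 → ℂ) = 1 ∨ 21 ≤ charDegree (χ : Spor.Co3 → ℂ) := by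
    by_cases h : (χ : Spor.Co3 → ℂ) = 1
    · left
      rw [h]
      unfold charDegree
      simp
    · exact Or.inr (H133.Ore.Co3.minDeg21 χ h)
  have h4 := H133.Ore.Co3.no22 χ
  have h5 := H133.Ore.Co3.no45 χ
  simp only [ok, Bool.and_eq_true, Bool.or_eq_true, bne_iff_ne, beq_iff_eq, Nat.ble_eq]
  exact ⟨List.contains_iff_mem.2 h1, List.contains_iff_mem.2 h2, h3, h4, h5⟩

theorem pp_chk : ∀ r ∈ [2, 3, 5, 7, 11, 23], ∀ v ∈ List.range 39, 1 ≤ v → r ^ v ∣ N → ok (r ^ v) = true →
    r = 23 ∧ v = 1 ∨ r = 2 ∧ v = 10 := by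
  decide +kernel

def LC : List (ℕ × ℕ) := H133.Ore.Co3.facs

theorem pp {r v : ℕ} (hr : r.Prime) (hv : 0 < v) (h : r ^ v ∣ N ∧ ok (r ^ v) = true) :
    r = 23 ∧ v = 1 ∨ r = 2 ∧ v = 10 := by
  have h3 : r ∈ H133.Ore.Co3.facs.map Prod.fst := prime_mem hr H133.Ore.Co3.facs
    (fun x hx => by
      simp only [H133.Ore.Co3.facs, List.mem_cons, List.not_mem_nil, or_false] at hx
      rcases hx with rfl | rfl | rfl | rfl | rfl | rfl <;> norm_num)
    (by rw [H133.Ore.Co3.facs_prod]; exact (dvd_pow_self r hv.ne').trans h.1)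
  have h4 : v < 39 := by
    by_contra hcon
    have h5 : 2 ^ 39 ≤ r ^ v := (Nat.pow_le_pow_right (by norm_num) (by omega)).trans (Nat.pow_le_pow_left hr.two_le v)
    have h6 : r ^ v ≤ 495766656000 := Nat.le_of_dvd (by norm_num) h.1
    norm_num at h5
    omega
  have h7 : r ∈ [2, 3, 5, 7, 11, 23] := by
    simp only [H133.Ore.Co3.facs, List.map_cons, List.map_nil, List.mem_cons, List.not_mem_nil, or_false] at h3
    simp only [List.mem_cons, List.not_mem_nil, or_false]
    tauto
  exact pp_chk r h7 v (List.mem_range.2 h4) hv h.1 h.2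

theorem low_chk : ∀ x ∈ [6, 7, 8, 9, 10, 11, 16, 20, 21, 22, 24, 32, 36, 42, 44, 45, 48, 72, 78, 88, 90, 156],
    x ∣ N → ok x = true → False := by
  decide +kernel

section

variable {A : Type u} [Group A] [Finite A] {S : Subgroup A} (hA : AlmostSimple A S)
  (hD : ∀ d ∈ charDegrees A, d ∣ N ∧ ok d = true)

include hA hD

theorem pr {p : ℕ} (hp : p.Prime) (hd : p ∣ Nat.card S) : p ∣ N := by
  obtain ⟨d, h1, h2⟩ := prime_deg hA hp hd
  exact h2.trans (hD d h1).1

theorem two (hout : Nat.card (Out S) ≤ 2) {a : ℕ} (ha : a ∈ charDegrees S)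
    (h1 : a ∣ N → ok a = true → False)
    (h2 : 2 * a ∣ N → ok (2 * a) = true → False) : False := by
  rcases two_deg hA hout ha with h | h
  · exact h1 (hD _ h).1 (hD _ h).2
  · exact h2 (hD _ h).1 (hD _ h).2

theorem lie_two (hl : IsLieTypeChar 2 S) : False := by
  refine H75.S8.lie_two_false (D := {d | d ∣ N ∧ ok d = true}) ?_ ?_ ?_ ?_ hA hD hl
  · intro a ha h
    rcases pp Nat.prime_two ha h with h1 | h1
    · omega
    · exact Or.inl h1.2
  · rintro d ⟨h1, -⟩ r hr h2
    have h3 := h2.trans h1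
    simp only [List.mem_cons, List.not_mem_nil, or_false] at hr
    rcases hr with rfl | rfl | rfl | rfl <;> norm_num at h3
  · exact fun h => low_chk 44 (by decide) h.1 h.2
  · exact fun h => low_chk 88 (by decide) h.1 h.2

theorem lie_23 (hl : IsLieTypeChar 23 S) : False := by
  have := hA.normal
  have := hA.simple
  have hp : Nat.Prime 23 := by norm_num
  have hi : S.index ∣ Nat.card (Cfsg.Out S) := H816.OutEmb.index_dvd S (by rw [hA.cent]; exact bot_le)
  obtain ⟨t, k, hv, ht, h1, h2⟩ := H690.S8.typ_mem_D (D := {d | d ∣ N ∧ ok d = true}) S hD hp hl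
  have ha : k * t.N = 1 := by
    rcases pp hp h1 h2 with h | h
    · exact h.2
    · omega
  obtain ⟨rfl, rfl⟩ := H690.S8.typ_prime hv ha
  obtain ⟨F, _, _, hF, ⟨e⟩⟩ := ht
  rw [pow_one] at hF
  obtain ⟨-, h6, -⟩ := H664.R1.PSLTwo.degrees_odd (F := F)
    (by rw [hF]; exact hp.odd_of_ne_two (by omega)) (by rw [hF]; norm_num)
  rw [hF] at h6
  have : Fact (Nat.Prime 23) := ⟨hp⟩
  have ho : Nat.card (Out S) = 2 := by
    rw [Nat.card_congr (H234.OutGood.outCongr e).toEquiv,
      H60.HalfPsl.card_out (F := F) (p := 23) (f := 1) (by norm_num) (by rw [pow_one]; exact hF)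
        (by norm_num), pow_one, mul_one]
    decide
  exact two hA hD ho.le (H657.DS.mem_equiv e h6) (low_chk 24 (by decide)) (low_chk 48 (by decide))

theorem lie {r : ℕ} (hr : r.Prime) (h : IsLieTypeChar r S) : False := by
  obtain ⟨v, hv, h1⟩ := lie_pp hA hr h
  rcases pp hr hv (hD _ h1) with ⟨rfl, -⟩ | ⟨rfl, -⟩
  · exact lie_23 hA hD h
  · exact lie_two hA hD h

theorem alt {m : ℕ} (hm : 5 ≤ m) (e : S ≃* alternatingGroup (Fin m)) : False := by
  rcases Nat.lt_or_ge m 7 with h7 | h7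
  · have : m = 5 ∨ m = 6 := by omega
    rcases this with rfl | rfl
    · exact lie hA hD (by norm_num) (lie_five e)
    · exact lie hA hD (r := 3) (by norm_num) (H679.isLie_six ⟨e⟩)
  · have h18 : m ≤ 12 := by
      by_contra hcon
      have h1 := pr hA hD (p := 13) (by norm_num)
        (by rw [Nat.card_congr e.toEquiv]; exact prime_dvd_alt (by norm_num) (by norm_num) hm (by omega))
      norm_num at h1
    have h1 := hD _ (alt_deg hA h7 e)
    refine low_chk (m - 1) ?_ h1.1 h1.2
    interval_cases m <;> decide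

theorem tits (h : Lie.IsoTits S) : False := by
  have hout := H489.card_out_tits h
  obtain ⟨e⟩ := h
  obtain ⟨f⟩ := H707.RowTits.equiv
  exact two hA hD hout (mem_of_equiv (e.trans f) H678.DG.Tits.deg_78) (low_chk 78 (by decide)) (low_chk 156 (by decide))

theorem spor (hm : Spor.IsoM24 S → False) (hc : Spor.IsoCo2 S → False) (h : IsSporadicGroup S) : Spor.IsoCo3 S := by
  have hout := H489.card_out_sporadic h
  have key : ∀ {a : ℕ}, a ∈ charDegrees S → (a ∣ N → ok a = true → False) →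
      (2 * a ∣ N → ok (2 * a) = true → False) → Spor.IsoCo3 S :=
    fun ha h1 h2 => (two hA hD hout ha h1 h2).elim
  have kp : ∀ {p M : ℕ}, p.Prime → Nat.card S = M → p ∣ M → ¬ p ∣ N → Spor.IsoCo3 S :=
    fun hp h1 h2 h3 => (h3 (pr hA hD hp (by rw [h1]; exact h2))).elim
  rcases h with h | h | h | h | h | h | h | h | h | h | h | h | h | h | h | h | h | h | h | h | h | h | h | h | h | h
  · obtain ⟨h1, h2, -⟩ := H603.FD.Spor.m11 (UGT.End.MEleven.isM11 h)
    exact key h1 (low_chk 10 (by decide)) (low_chk 20 (by decide))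
  · obtain ⟨h1, h2, -⟩ := H603.FD.Spor.m12 (H603.FD.Spor.isM12 h)
    exact key h1 (low_chk 16 (by decide)) (low_chk 32 (by decide))
  · obtain ⟨h1, h2, -⟩ := H603.FD.Spor.m22 (H417.RecogMathieu.isM22 h)
    exact key h1 (low_chk 21 (by decide)) (low_chk 42 (by decide))
  · obtain ⟨h1, h2, -⟩ := H603.FD.Spor.m23 (H417.RecogMathieu.isM23 h)
    exact key h2 (low_chk 45 (by decide)) (low_chk 90 (by decide))
  · exact (hm h).elim
  · exact kp (p := 19) (by norm_num) (NotCT.Orders.j1 h) (by norm_num) (by norm_num)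
  · exact key (H672.SporIM.j2 h).2 (low_chk 36 (by decide)) (low_chk 72 (by decide))
  · exact kp (p := 19) (by norm_num) (NotCT.Orders.j3 h) (by norm_num) (by norm_num)
  · exact kp (p := 43) (by norm_num) (NotCT.Orders.j4 h) (by norm_num) (by norm_num)
  · exact kp (p := 13) (by norm_num) (NotCT.Orders.co1 h) (by norm_num) (by norm_num)
  · exact (hc h).elim
  · exact h
  · exact key (mem_of_irr (H765.DS.HSMcL.mcl_22 h)) (low_chk 22 (by decide)) (low_chk 44 (by decide))
  · exact key (mem_of_irr (H765.DS.HSMcL.hs_22 h)) (low_chk 22 (by decide)) (low_chk 44 (by decide))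
  · exact kp (p := 13) (by norm_num) (NotCT.Orders.suz h) (by norm_num) (by norm_num)
  · exact kp (p := 17) (by norm_num) (NotCT.Orders.he h) (by norm_num) (by norm_num)
  · exact kp (p := 29) (by norm_num) (NotCT.Orders.ru h) (by norm_num) (by norm_num)
  · exact kp (p := 31) (by norm_num) (NotCT.Orders.on h) (by norm_num) (by norm_num)
  · exact kp (p := 67) (by norm_num) (NotCT.Orders.ly h) (by norm_num) (by norm_num)
  · exact kp (p := 13) (by norm_num) (NotCT.Orders.fi22 h) (by norm_num) (by norm_num)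
  · exact kp (p := 13) (by norm_num) (NotCT.Orders.fi23 h) (by norm_num) (by norm_num)
  · exact kp (p := 29) (by norm_num) (NotCT.Orders.fi24 h) (by norm_num) (by norm_num)
  · exact kp (p := 19) (by norm_num) (NotCT.Orders.hn h) (by norm_num) (by norm_num)
  · exact kp (p := 31) (by norm_num) (NotCT.Orders.th h) (by norm_num) (by norm_num)
  · exact kp (p := 47) (by norm_num) (NotCT.Orders.b h) (by norm_num) (by norm_num)
  · exact kp (p := 71) (by norm_num) (NotCT.Orders.m h) (by norm_num) (by norm_num)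

theorem main (hm : Spor.IsoM24 S → False) (hc : Spor.IsoCo2 S → False) : Spor.IsoCo3 S := by
  have := hA.simple
  rcases exists_split S hA.nonab with ⟨l, hl, ⟨e⟩⟩ | ⟨r, hr, h⟩ | h | h
  · exact (alt hA hD hl e).elim
  · exact (lie hA hD hr h).elim
  · exact (tits hA hD h).elim
  · exact spor hA hD hm hc h

end

/-- the row with the two exceptional pairs as hypotheses -/
theorem soc1_of
    (hm : ∀ (A : Type u) [Group A] [Finite A] (S : Subgroup A), AlmostSimple A S →
      charDegrees A ⊆ charDegrees Spor.Co3 → Spor.IsoM24 S → False)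
    (hc : ∀ (A : Type u) [Group A] [Finite A] (S : Subgroup A), AlmostSimple A S →
      charDegrees A ⊆ charDegrees Spor.Co3 → Spor.IsoCo2 S → False)
    {X : Type v} [Group X] (hX : Spor.IsoCo3 X) {D : Set ℕ} (hD : H704.S8.Deg 1 X D) :
    H704.S8.Soc1.{u} D X := by
  intro A _ _ S hA h
  obtain rfl : D = charDegrees X := hD.resolve_right fun h => absurd h.1 (by norm_num)
  obtain ⟨f⟩ := hX
  have h1 : charDegrees A ⊆ charDegrees Spor.Co3 := fun d hd => mem_of_equiv f.symm (h hd)
  obtain ⟨e⟩ := main hA (fun d hd => deg_co (h1 hd)) (hm A S hA h1) (hc A S hA h1)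
  exact ⟨e.trans f.symm⟩

end Cfsg.Agent.H809.S8.CoThree
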